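import Cfsg.Agent.InvFix.SixLemmas
import Cfsg.Agent.PGroup.Frattini
import Cfsg.Agent.S0205

/-!
Solvable automorphism images for 2-groups generated by two or three elements.
-/

set_option autoImplicit false

namespace Cfsg.Agent.InvFix

open scoped commutatorElement

variable {P : Type*} [Group P] [Finite P]

/-- The action on the Frattini quotient. -/
def frattiniAut : MulAut P →* MulAut (P ⧸ frattini P) where
  toFun a := QuotientGroup.congr (frattini P) (frattini P) a
    (Subgroup.characteristic_iff_map_eq.mp frattini_characteristic a)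
  map_one' := by
    ext x
    induction x using QuotientGroup.induction_on with
    | H y => rfl
  map_mul' _ _ := by
    ext x
    induction x using QuotientGroup.induction_on with
    | H y => rfl

theorem frattiniAut_mk (a : MulAut P) (x : P) :
    frattiniAut a (x : P ⧸ frattini P) = (a x : P ⧸ frattini P) := rfl

theorem mem_ker_frattiniAut {a : MulAut P} :
    a ∈ (frattiniAut (P := P)).ker ↔ ∀ x : P, x⁻¹ * a x ∈ frattini P := by
  constructor
  · intro h x
    have h1 : frattiniAut a (x : P ⧸ frattini P) = (x : P ⧸ frattini P) := by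
      rw [MonoidHom.mem_ker.mp h]; rfl
    rw [frattiniAut_mk] at h1
    exact QuotientGroup.eq.mp h1.symm
  · intro h
    rw [MonoidHom.mem_ker]
    ext x
    induction x using QuotientGroup.induction_on with
    | H y => exact (QuotientGroup.eq.mpr (h y)).symm

/-- The kernel of the action on the Frattini quotient is a p-group. -/
theorem isPGroup_ker_frattiniAut (hP : IsPGroup 2 P) :
    IsPGroup 2 (frattiniAut (P := P)).ker := by
  haveI : Fact (Nat.Prime 2) := ⟨Nat.prime_two⟩
  haveI : Finite (MulAut P) := Finite.of_injective _ DFunLike.coe_injective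
  intro a
  have hn0 : orderOf (a : MulAut P) ≠ 0 := (orderOf_pos _).ne'
  obtain ⟨e, m, hm, hme⟩ := Nat.exists_eq_two_pow_mul_odd hn0
  refine ⟨e, Subtype.ext ?_⟩
  show (a : MulAut P) ^ 2 ^ e = 1
  refine Cfsg.Agent.PGroup.mulAut_eq_one_of_frattini hP _ ?_
    (mem_ker_frattiniAut.mp ((frattiniAut (P := P)).ker.pow_mem a.2 _))
  refine Nat.Coprime.coprime_dvd_left (orderOf_dvd_of_pow_eq_one ?_) (Nat.coprime_two_right.mpr hm)
  rw [← pow_mul, ← hme, pow_orderOf_eq_one]

theorem isSolvable_of_frattiniAut (hP : IsPGroup 2 P) (R : Subgroup (MulAut P))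
    (h : Group.IsSolvable (R.map frattiniAut)) : Group.IsSolvable R := by
  haveI : Fact (Nat.Prime 2) := ⟨Nat.prime_two⟩
  haveI : Finite (MulAut P) := Finite.of_injective _ DFunLike.coe_injective
  haveI := (isPGroup_ker_frattiniAut hP).isNilpotent
  haveI : Group.IsSolvable (frattiniAut (P := P)).ker := inferInstance
  haveI := h
  let f : R →* R.map (frattiniAut (P := P)) := (frattiniAut.comp R.subtype).codRestrict _
    fun r => ⟨r, r.2, rfl⟩
  let g : f.ker →* (frattiniAut (P := P)).ker :=
    (R.subtype.comp f.ker.subtype).codRestrict _ fun r => congrArg Subtype.val (MonoidHom.mem_ker.mp r.2)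
  haveI : Group.IsSolvable f.ker := Group.isSolvable_of_isSolvable_injective (f := g)
    fun a b h => Subtype.ext (Subtype.ext (congrArg (fun t : (frattiniAut (P := P)).ker =>
      (t : MulAut P)) h))
  exact Group.isSolvable_of_ker_le_range f.ker.subtype f (by rw [Subgroup.range_subtype])

theorem card_quotient_le_of_closure (hP : IsPGroup 2 P) {S : Finset P}
    (hS : Subgroup.closure (S : Set P) = ⊤) : Nat.card (P ⧸ frattini P) ≤ 2 ^ S.card := by
  haveI : Fact (Nat.Prime 2) := ⟨Nat.prime_two⟩
  rw [← Subgroup.index_eq_card]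
  exact Cfsg.Agent.PGroup.index_frattini_le_pow_card hP hS

theorem isSolvable_mulAut_of_card_le_four (A : Type*) [Group A] [Finite A] (h : Nat.card A ≤ 4) :
    Group.IsSolvable (MulAut A) := by
  classical
  haveI := Fintype.ofFinite A
  rw [Nat.card_eq_fintype_card] at h
  let i : A ↪ Fin 4 := (Fintype.equivFin A).toEmbedding.trans (Fin.castLEEmb h)
  haveI := Cfsg.Agent.CharTwo.TwoSymFour.solvable_perm_four'
  let t : MulAut A →* Equiv.Perm A :=
    { toFun := fun a => a.toEquiv
      map_one' := rfl
      map_mul' := fun _ _ => rfl }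
  refine Group.isSolvable_of_isSolvable_injective
    (f := (Equiv.Perm.viaEmbeddingHom i).comp t) ?_
  exact (Equiv.Perm.viaEmbeddingHom_injective i).comp fun a b hab =>
    MulEquiv.ext fun x => Equiv.congr_fun hab x

section Eight

variable {Q : Type*} [CommGroup Q] [Finite Q]

/-- A perfect group centralising an element of order three of a group of order eight is trivial. -/
theorem eq_bot_of_three (hQ : ∀ x : Q, x * x = 1) (hk : Nat.card Q = 2 ^ 3)
    {D : Subgroup (MulAut Q)} (hD : commutator D = ⊤) {c : MulAut Q} (hc : orderOf c = 3)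
    (hcomm : ∀ d ∈ D, d * c = c * d) : D = ⊥ := by
  classical
  haveI : Fact (Nat.Prime 3) := ⟨by norm_num⟩
  have hc3 : c ^ 3 ^ 1 = 1 := by rw [pow_one, ← hc]; exact pow_orderOf_eq_one c
  obtain ⟨j, hj, hF⟩ := exists_card_eq_two_pow hQ hk (fixSub c)
  have h := card_modEq_fix hc3 (Q := (⊤ : Subgroup Q)) (fun x _ => Subgroup.mem_top _)
  rw [top_inf_eq, hF, Subgroup.card_top, hk] at h
  unfold Nat.ModEq at h
  have hj1 : j = 1 := by
    interval_cases j <;> simp_all
    have htop : fixSub c = ⊤ := Subgroup.eq_top_of_card_eq _ (hF.trans hk.symm)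
    have : c = 1 := MulEquiv.ext fun x => mem_fixSub.mp (htop ▸ Subgroup.mem_top x)
    rw [this, orderOf_one] at hc
    omega
  rw [hj1, pow_one] at hF
  let δ : Q →* Q :=
    { toFun := fun x => c x * x
      map_one' := by simp
      map_mul' := fun x y => by rw [map_mul]; ac_rfl }
  have hker : δ.ker = fixSub c := by
    ext x
    rw [MonoidHom.mem_ker, mem_fixSub]
    show c x * x = 1 ↔ c x = x
    rw [mul_eq_one_iff_eq_inv, inv_eq_self hQ]
  have hM : Nat.card δ.range = 4 := by
    have h1 := Subgroup.index_mul_card δ.ker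
    rw [Subgroup.index_ker, hker, hF, hk] at h1
    omega
  have hdinv : ∀ d ∈ D, ∀ x, δ (d x) = d (δ x) := fun d hd x => by
    show c (d x) * d x = d (c x * x)
    rw [map_mul, show d (c x) = c (d x) from DFunLike.congr_fun (hcomm d hd) x]
  have htriv : ∀ (U : Subgroup Q), Nat.card U ≤ 4 → D ≤ invSub U → ∀ d ∈ D, ∀ x ∈ U, d x = x := by
    intro U hU hDU d hd x hx
    haveI := isSolvable_mulAut_of_card_le_four U hU
    have h := hom_eq_one_of_solvable hD ((restrictAut U).comp (Subgroup.inclusion hDU)) inferInstance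
      ⟨d, hd⟩
    exact congrArg Subtype.val (DFunLike.congr_fun h ⟨x, hx⟩)
  have hFix := htriv (fixSub c) (by omega) fun d hd => mem_invSub_of_maps_to fun x hx => by
    rw [mem_fixSub] at hx ⊢
    rw [show c (d x) = d (c x) from (DFunLike.congr_fun (hcomm d hd) x).symm, hx]
  have hRan := htriv δ.range hM.le fun d hd => mem_invSub_of_maps_to fun x hx => by
    obtain ⟨y, rfl⟩ := hx
    exact ⟨d y, hdinv d hd y⟩
  -- elements fixing the kernel and the image of `δ`
  refine eq_bot_of_perfect_comm hD fun a ha b hb => MulEquiv.ext fun x => ?_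
  have hdiff : ∀ d ∈ D, ∀ y, d y * y ∈ fixSub c := fun d hd y => by
    rw [← hker, MonoidHom.mem_ker, map_mul, hdinv d hd, hRan d hd _ ⟨y, rfl⟩, hQ]
  have key : ∀ p ∈ D, ∀ q ∈ D, p (q x) = p x * q x * x := by
    intro p hp q hq
    conv_lhs => rw [show q x = x * (q x * x) by rw [mul_left_comm, hQ, mul_one], map_mul,
      hFix p hp _ (hdiff q hq x)]
    rw [mul_assoc]
  show a (b x) = b (a x)
  rw [key a ha b hb, key b hb a ha]
  ac_rfl

/-- Automorphism groups of a group of order eight normalising a non-trivial odd subgroup. -/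
theorem isSolvable_of_normalize_odd (hQ : ∀ x : Q, x * x = 1) (hk : Nat.card Q = 2 ^ 3)
    (A B : Subgroup (MulAut Q)) (hB : B ≠ ⊥) (hodd : Odd (Nat.card B))
    (hAB : A ≤ Subgroup.normalizer (B : Set (MulAut Q))) : Group.IsSolvable A := by
  classical
  obtain ⟨n, hn⟩ := exists_perfect_derived A
  refine (Group.isSolvable_def _).mpr ⟨n, ?_⟩
  set D := (derivedSeries A n).map A.subtype with hDdef
  suffices h : D = ⊥ by
    rwa [hDdef, Subgroup.map_eq_bot_iff_of_injective _ A.subtype_injective] at h
  have hD : commutator D = ⊤ := by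
    refine Subgroup.map_injective (Subgroup.subtype_injective _) ?_
    rw [Subgroup.map_subtype_commutator, ← MonoidHom.range_eq_map, Subgroup.range_subtype, hDdef,
      ← Subgroup.map_commutator]
    have := congrArg (Subgroup.map (derivedSeries A n).subtype) hn
    rw [Subgroup.map_subtype_commutator, ← MonoidHom.range_eq_map, Subgroup.range_subtype] at this
    rw [this]
  have hDB : D ≤ Subgroup.normalizer (B : Set (MulAut Q)) := (Subgroup.map_subtype_le _).trans hAB
  -- the order of `B`
  letI : Module (ZMod 2) (Additive Q) := AddCommGroup.zmodModule (fun a => by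
    apply Additive.toMul.injective
    rw [toMul_nsmul, toMul_zero, pow_two, hQ])
  haveI : Finite (Additive Q) := inferInstanceAs (Finite Q)
  have hfr : Module.finrank (ZMod 2) (Additive Q) = 3 := by
    have h := Module.natCard_eq_pow_finrank (K := ZMod 2) (V := Additive Q)
    rw [show Nat.card (Additive Q) = Nat.card Q from Nat.card_congr Additive.toMul, hk,
      Nat.card_eq_fintype_card, ZMod.card] at h
    exact Nat.pow_right_injective le_rfl h.symm
  let b := Module.finBasisOfFinrankEq (ZMod 2) (Additive Q) hfr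
  let toEnd : MulAut Q →* Module.End (ZMod 2) (Additive Q) :=
    { toFun := fun a => (MonoidHom.toAdditive a.toMonoidHom).toZModLinearMap 2
      map_one' := LinearMap.ext fun _ => rfl
      map_mul' := fun _ _ => LinearMap.ext fun _ => rfl }
  let g : MulAut Q →* GL (Fin 3) (ZMod 2) :=
    ((LinearMap.toMatrixAlgEquiv b).toMulEquiv.toMonoidHom.comp toEnd).toHomUnits
  have hg : Function.Injective g := fun a c h => MulEquiv.ext fun x => Additive.ofMul.injective (by
    have h1 : toEnd a = toEnd c := (LinearMap.toMatrixAlgEquiv b).injective (congrArg Units.val h)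
    exact LinearMap.congr_fun h1 (Additive.ofMul x))
  have hdvd := Subgroup.card_dvd_of_injective (g.comp B.subtype) (hg.comp B.subtype_injective)
  rw [Matrix.card_GL_field, Fin.prod_univ_three, ZMod.card] at hdvd
  norm_num at hdvd
  have h21 : Nat.card B ∣ 21 := by
    refine Nat.Coprime.dvd_of_dvd_mul_left (k := Nat.card B) (m := 8) ?_ (by norm_num; exact hdvd)
    exact (Nat.coprime_two_right.mpr hodd).pow_right 3
  have hBgt : 1 < Nat.card B := by
    haveI := (Subgroup.nontrivial_iff_ne_bot B).mpr hB
    exact Finite.one_lt_card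
  -- a characteristic element
  obtain ⟨c, hcB, p, hp, hcp, huniq⟩ : ∃ c ∈ B, ∃ p : ℕ, (p = 3 ∨ p = 7) ∧ orderOf c = p ∧
      ∀ x ∈ B, orderOf x = p → x ∈ Subgroup.zpowers c := by
    by_cases h7 : 7 ∣ Nat.card B
    · haveI : Fact (Nat.Prime 7) := ⟨by norm_num⟩
      obtain ⟨c, hc⟩ := exists_prime_orderOf_dvd_card' 7 h7
      have hc7 : orderOf (c : MulAut Q) = 7 := by rw [Subgroup.orderOf_coe]; exact hc
      refine ⟨c, c.2, 7, Or.inr rfl, hc7, fun x hx hx7 => ?_⟩
      by_contra hxc
      have hinj : Function.Injective fun pr : Subgroup.zpowers (c : MulAut Q) × Subgroup.zpowers x =>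
          (⟨(pr.1 : MulAut Q) * pr.2, B.mul_mem (Subgroup.zpowers_le.mpr c.2 pr.1.2)
            (Subgroup.zpowers_le.mpr hx pr.2.2)⟩ : B) := by
        intro u v huv
        have h' : (u.1 : MulAut Q) * u.2 = v.1 * v.2 := congrArg Subtype.val huv
        have h2 : ((v.1 : MulAut Q))⁻¹ * u.1 = (v.2 : MulAut Q) * (u.2 : MulAut Q)⁻¹ := by
          rw [inv_mul_eq_iff_eq_mul, ← mul_assoc, ← h', mul_inv_cancel_right]
        have h3 : (v.2 : MulAut Q) * (u.2 : MulAut Q)⁻¹ = 1 := by
          by_contra hne
          refine hxc ?_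
          have hc' : (v.2 : MulAut Q) * (u.2 : MulAut Q)⁻¹ ∈ Subgroup.zpowers (c : MulAut Q) :=
            h2 ▸ Subgroup.mul_mem _ (Subgroup.inv_mem _ v.1.2) u.1.2
          let w : Subgroup.zpowers x := v.2 * u.2⁻¹
          have hw : w ≠ 1 := fun h => hne (congrArg Subtype.val h)
          have hx' := mem_zpowers_of_prime_card (p := 7) (by rw [Nat.card_zpowers, hx7]) hw
            (g' := (⟨x, Subgroup.mem_zpowers x⟩ : Subgroup.zpowers x))
          obtain ⟨i, hi⟩ := Subgroup.mem_zpowers_iff.mp hx'
          have hi' : ((w : MulAut Q)) ^ i = x := by simpa using congrArg Subtype.val hi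
          rw [← hi']
          exact Subgroup.zpow_mem _ hc' i
        rw [h3, inv_mul_eq_one] at h2
        exact Prod.ext (Subtype.ext h2.symm) (Subtype.ext (mul_inv_eq_one.mp h3).symm)
      have hle := Nat.card_le_card_of_injective _ hinj
      rw [Nat.card_prod, Nat.card_zpowers, Nat.card_zpowers, hc7, hx7] at hle
      have := Nat.le_of_dvd (by norm_num) h21
      omega
    · have h3 : Nat.card B = 3 := by
        have hle := Nat.le_of_dvd (by norm_num) h21
        interval_cases hcB : Nat.card B <;> first | rfl | omega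
      haveI : Fact (Nat.Prime 3) := ⟨by norm_num⟩
      obtain ⟨c, hc⟩ := exists_prime_orderOf_dvd_card' (G := B) 3 (by rw [h3])
      refine ⟨c, c.2, 3, Or.inl rfl, by rw [Subgroup.orderOf_coe]; exact hc, fun x hx _ => ?_⟩
      have hc1 : c ≠ 1 := fun h => by rw [h, orderOf_one] at hc; omega
      obtain ⟨i, hi⟩ := Subgroup.mem_zpowers_iff.mp
        (mem_zpowers_of_prime_card (p := 3) h3 hc1 (g' := (⟨x, hx⟩ : B)))
      exact Subgroup.mem_zpowers_iff.mpr ⟨i, by simpa using congrArg Subtype.val hi⟩
  have hcomm : ∀ d ∈ D, d * c = c * d := fun d hd =>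
    commute_of_normalize_zpowers hD D.subtype (fun d => huniq _
      ((Subgroup.mem_normalizer_iff.mp (hDB d.2) c).mp hcB)
      (by
        rw [← hcp]
        exact orderOf_injective (MulAut.conj (d : MulAut Q)).toMonoidHom
          (MulAut.conj (d : MulAut Q)).injective c)) ⟨d, hd⟩
  rcases hp with rfl | rfl
  · exact eq_bot_of_three hQ hk hD hcp hcomm
  · haveI : Fact (Nat.Prime 7) := ⟨by norm_num⟩
    have hc7 : c ^ 7 ^ 1 = 1 := by rw [pow_one, ← hcp]; exact pow_orderOf_eq_one c
    have hfpf : ∀ x, c x = x → x = 1 := by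
      intro x hx
      obtain ⟨j, hj, hF⟩ := exists_card_eq_two_pow hQ hk (fixSub c)
      have h := card_modEq_fix hc7 (Q := (⊤ : Subgroup Q)) (fun x _ => Subgroup.mem_top _)
      rw [top_inf_eq, hF, Subgroup.card_top, hk] at h
      unfold Nat.ModEq at h
      have hj0 : j = 0 := by
        interval_cases j <;> simp_all
        have htop : fixSub c = ⊤ := Subgroup.eq_top_of_card_eq _ (hF.trans hk.symm)
        have : c = 1 := MulEquiv.ext fun x => mem_fixSub.mp (htop ▸ Subgroup.mem_top x)
        rw [this, orderOf_one] at hcp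
        omega
      exact Subgroup.mem_bot.mp ((Subgroup.eq_bot_of_card_eq _ (by rw [hF, hj0, pow_zero])) ▸
        (mem_fixSub.mpr hx))
    refine eq_bot_of_perfect_comm hD fun a ha b hb => ?_
    obtain ⟨i, rfl⟩ := exists_eq_pow (hk.trans (by norm_num)) hc7 hfpf (hcomm a ha)
    exact ((Commute.pow_right (hcomm b hb) i).eq).symm

end Eight

end Cfsg.Agent.InvFix
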