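import Cfsg.Agent.InvFix.Auto
import Cfsg.Agent.InvFix.Perfect
import Cfsg.Agent.InvFix.SmallRank
import Cfsg.Agent.LocEven.AutSylowTwo

/-!
Criteria on a Sylow 2-subgroup `S` for the solvability of the action of `N_{Aut G}(S)` on `S`.
-/

set_option autoImplicit false
set_option maxHeartbeats 1000000

namespace Cfsg.Agent.InvFix

open Cfsg.Agent.LocEven.AutSylowTwo
open scoped commutatorElement Pointwise

universe u

variable {G : Type u} [Group G] [Finite G]

/-- The normalizer of a Sylow 2-subgroup is solvable. -/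
theorem isSolvable_normalizer_sylow (S : Sylow 2 G) :
    Group.IsSolvable (Subgroup.normalizer ((S : Subgroup G) : Set G)) := by
  haveI : Fact (Nat.Prime 2) := ⟨Nat.prime_two⟩
  set N := Subgroup.normalizer ((S : Subgroup G) : Set G) with hN
  set H := (S : Subgroup G).subgroupOf N with hH
  haveI : H.Normal := Subgroup.normal_in_normalizer
  haveI := S.isPGroup'.isNilpotent
  haveI : Group.IsSolvable (S : Subgroup G) := inferInstance
  haveI : Group.IsSolvable H := Group.isSolvable_of_isSolvable_injective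
    (f := (Subgroup.subgroupOfEquivOfLe (Subgroup.le_normalizer (H := (S : Subgroup G)))).toMonoidHom)
    (MulEquiv.injective _)
  haveI : Group.IsSolvable (N ⧸ H) := by
    refine Cfsg.Agent.S0205.result ?_
    rw [← Subgroup.index_eq_card, Nat.odd_iff]
    refine Nat.two_dvd_ne_zero.mp fun h2 => ?_
    exact S.not_dvd_index (h2.trans (dvd_of_mul_right_eq _
      (Subgroup.relIndex_mul_index (Subgroup.le_normalizer (H := (S : Subgroup G))))))
  exact Group.isSolvable_of_ker_le_range H.subtype (QuotientGroup.mk' H)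
    (by rw [QuotientGroup.ker_mk', Subgroup.range_subtype])

theorem mem_range_restr (S : Sylow 2 G) {g : G}
    (hg : g ∈ Subgroup.normalizer ((S : Subgroup G) : Set G)) :
    (S : Subgroup G).normalizerMonoidHom ⟨g, hg⟩ ∈ (restr (S : Subgroup G)).range := by
  refine ⟨⟨MulAut.conj g, ?_⟩, ?_⟩
  · show (S : Subgroup G).map (MulAut.conj g).toMonoidHom = S
    refine le_antisymm ?_ fun x hx => ⟨g⁻¹ * x * g, ?_, ?_⟩
    · rintro _ ⟨x, hx, rfl⟩
      exact (Subgroup.mem_normalizer_iff.mp hg x).mp hx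
    · have := (Subgroup.mem_normalizer_iff.mp (Subgroup.inv_mem _ hg) x).mp hx
      rw [inv_inv] at this
      exact this
    · show g * (g⁻¹ * x * g) * g⁻¹ = x
      group
  · ext x
    rfl

/-- Two and three generators. -/
theorem isSolvable_restr_small (S : Sylow 2 G)
    (h : (∃ a b : ↥S, Subgroup.closure ({a, b} : Set ↥S) = ⊤) ∨
      ((∃ a b c : ↥S, Subgroup.closure ({a, b, c} : Set ↥S) = ⊤) ∧
        ∃ g ∈ Subgroup.normalizer ((S : Subgroup G) : Set G), Odd (orderOf g) ∧
          g ∉ Subgroup.centralizer ((S : Subgroup G) : Set G))) :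
    Group.IsSolvable (restr (S : Subgroup G)).range := by
  classical
  haveI : Fact (Nat.Prime 2) := ⟨Nat.prime_two⟩
  have hP : IsPGroup 2 (S : Subgroup G) := S.isPGroup'
  haveI : Finite (MulAut (S : Subgroup G)) := Finite.of_injective _ DFunLike.coe_injective
  set Q := (S : Subgroup G) ⧸ frattini (S : Subgroup G) with hQ
  refine isSolvable_of_frattiniAut hP _ ?_
  have hsmall : Nat.card Q ≤ 4 →
      Group.IsSolvable ((restr (S : Subgroup G)).range.map frattiniAut) := fun h4 => by
    haveI := isSolvable_mulAut_of_card_le_four Q h4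
    infer_instance
  rcases h with ⟨a, b, hab⟩ | ⟨⟨a, b, c, habc⟩, g, hgN, hodd, hgC⟩
  · refine hsmall ((card_quotient_le_of_closure hP (S := {a, b}) (by simpa using hab)).trans ?_)
    exact (Nat.pow_le_pow_right two_pos Finset.card_le_two).trans (by norm_num)
  have h8 : Nat.card Q ≤ 8 :=
    (card_quotient_le_of_closure hP (S := {a, b, c}) (by simpa using habc)).trans
      ((Nat.pow_le_pow_right two_pos Finset.card_le_three).trans (by norm_num))
  by_cases h4 : Nat.card Q ≤ 4
  · exact hsmall h4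
  set N := Subgroup.normalizer ((S : Subgroup G) : Set G) with hN
  let f : N →* MulAut Q := frattiniAut.comp ((S : Subgroup G).normalizerMonoidHom)
  have hSker : (S : Subgroup G).subgroupOf N ≤ f.ker := by
    intro x hx
    refine mem_ker_frattiniAut.mpr fun y => ?_
    have hx' : (x : G) ∈ (S : Subgroup G) := hx
    have := Cfsg.Agent.PGroup.commutatorElement_mem_frattini hP y⁻¹ ⟨x, hx'⟩
    rw [commutatorElement_def, inv_inv] at this
    convert this using 1
    apply Subtype.ext
    show (y : G)⁻¹ * ((x : G) * (y : G) * (x : G)⁻¹) = (y : G)⁻¹ * (x : G) * (y : G) * (x : G)⁻¹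
    group
  have hoddB : Odd (Nat.card f.range) := by
    rw [← Subgroup.index_ker]
    refine Odd.of_dvd_nat ?_ (Subgroup.index_dvd_of_le hSker)
    rw [Nat.odd_iff]
    refine Nat.two_dvd_ne_zero.mp fun h2 => ?_
    exact S.not_dvd_index (h2.trans (dvd_of_mul_right_eq _
      (Subgroup.relIndex_mul_index (Subgroup.le_normalizer (H := (S : Subgroup G))))))
  have hne : f.range ≠ ⊥ := by
    rw [Ne, MonoidHom.range_eq_bot_iff]
    intro hf
    set a := (S : Subgroup G).normalizerMonoidHom ⟨g, hgN⟩ with ha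
    have hfg : f ⟨g, hgN⟩ = 1 := by rw [hf, MonoidHom.one_apply]
    have hker : a ∈ (frattiniAut (P := (S : Subgroup G))).ker := by
      rw [MonoidHom.mem_ker]
      exact hfg
    obtain ⟨k, hk⟩ := isPGroup_ker_frattiniAut hP ⟨a, hker⟩
    have hd1 : orderOf a ∣ 2 ^ k := orderOf_dvd_of_pow_eq_one (congrArg Subtype.val hk)
    have hd2 : orderOf a ∣ orderOf g := by
      rw [← Subgroup.orderOf_mk g hgN]
      exact orderOf_map_dvd _ _
    have ha1 : a = 1 := orderOf_eq_one_iff.mp (Nat.eq_one_of_dvd_coprimes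
      ((Nat.coprime_two_left.mpr hodd).pow_left k) hd1 hd2)
    refine hgC (Subgroup.mem_centralizer_iff.mpr fun s hs => ?_)
    have h1 := congrArg Subtype.val (DFunLike.congr_fun ha1 ⟨s, hs⟩)
    exact (mul_inv_eq_iff_eq_mul.mp (show g * s * g⁻¹ = s from h1)).symm
  letI : CommGroup Q := { (inferInstance : Group Q) with
    mul_comm := fun x y => by
      induction x using QuotientGroup.induction_on with
      | H u =>
        induction y using QuotientGroup.induction_on with
        | H v =>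
          rw [← QuotientGroup.mk_mul, ← QuotientGroup.mk_mul, QuotientGroup.eq]
          have := Cfsg.Agent.PGroup.commutatorElement_mem_frattini hP v⁻¹ u⁻¹
          simpa [commutatorElement_def, mul_assoc] using this }
  have hE : ∀ x : Q, x * x = 1 := fun x => by
    induction x using QuotientGroup.induction_on with
    | H u =>
      rw [← QuotientGroup.mk_mul, QuotientGroup.eq_one_iff, ← pow_two]
      exact Cfsg.Agent.PGroup.pow_mem_frattini hP u
  have hcard : Nat.card Q = 2 ^ 3 := by
    obtain ⟨k, hk⟩ := IsPGroup.iff_card.mp (hP.to_quotient (frattini (S : Subgroup G)))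
    change Nat.card Q = 2 ^ k at hk
    rw [hk] at h4 h8 ⊢
    have hk4 : k < 4 := (Nat.pow_lt_pow_iff_right (show 1 < 2 by norm_num)).mp
      (show 2 ^ k < 2 ^ 4 by omega)
    interval_cases k <;> first | rfl | omega
  refine isSolvable_of_normalize_odd hE hcard _ f.range hne hoddB ?_
  rintro _ ⟨_, ⟨t, rfl⟩, rfl⟩
  rw [Subgroup.mem_normalizer_iff_map_conj_eq]
  refine Subgroup.eq_of_le_of_card_ge ?_ (Subgroup.card_map_of_injective (MulEquiv.injective _)).ge
  rintro _ ⟨_, ⟨⟨n, hn⟩, rfl⟩, rfl⟩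
  have htS : (S : Subgroup G).map (t : MulAut G).toMonoidHom = S := t.2
  have hn' : (t : MulAut G) n ∈ N := by
    rw [hN, Subgroup.mem_normalizer_iff]
    intro x
    obtain ⟨y, rfl⟩ := (t : MulAut G).surjective x
    rw [← map_mul, ← map_inv, ← map_mul]
    have hiff : ∀ z, (t : MulAut G) z ∈ (S : Subgroup G) ↔ z ∈ (S : Subgroup G) := fun z => by
      constructor
      · intro hz
        obtain ⟨w, hw, hwz⟩ := htS.ge hz
        rwa [← (t : MulAut G).injective hwz]
      · intro hz
        exact htS.le ⟨z, hz, rfl⟩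
    rw [hiff, hiff]
    exact Subgroup.mem_normalizer_iff.mp hn y
  refine ⟨⟨_, hn'⟩, ?_⟩
  show frattiniAut _ = frattiniAut (restr (S : Subgroup G) t) * frattiniAut _ *
    (frattiniAut (restr (S : Subgroup G) t))⁻¹
  rw [eq_mul_inv_iff_mul_eq, ← map_mul, ← map_mul]
  refine congrArg _ (MulEquiv.ext fun x => Subtype.ext ?_)
  show (t : MulAut G) n * (t : MulAut G) x * ((t : MulAut G) n)⁻¹ = (t : MulAut G) (n * x * n⁻¹)
  rw [map_mul, map_mul, map_inv]

/-- Involutions commuting pairwise and all conjugate. -/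
theorem isSolvable_restr_involutions (S : Sylow 2 G)
    (hc : ∀ s ∈ S, ∀ t ∈ S, orderOf s = 2 → orderOf t = 2 → s * t = t * s)
    (hconj : ∀ s ∈ S, ∀ t ∈ S, orderOf s = 2 → orderOf t = 2 → ∃ g : G, g * s * g⁻¹ = t) :
    Group.IsSolvable (restr (S : Subgroup G)).range := by
  classical
  haveI : Fact (Nat.Prime 2) := ⟨Nat.prime_two⟩
  have hord : ∀ x : G, x * x = 1 → x ≠ 1 → orderOf x = 2 := fun x h h1 =>
    orderOf_eq_prime (by rw [pow_two]; exact h) h1
  have hcomm' : ∀ x ∈ (S : Subgroup G), ∀ y ∈ (S : Subgroup G), x * x = 1 → y * y = 1 →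
      x * y = y * x := by
    intro x hx y hy h1 h2
    by_cases hx1 : x = 1
    · rw [hx1, one_mul, mul_one]
    by_cases hy1 : y = 1
    · rw [hy1, one_mul, mul_one]
    exact hc x hx y hy (hord x h1 hx1) (hord y h2 hy1)
  let E : Subgroup G :=
    { carrier := {x | x ∈ (S : Subgroup G) ∧ x * x = 1}
      one_mem' := ⟨one_mem _, one_mul 1⟩
      mul_mem' := fun {a b} ha hb => ⟨mul_mem ha.1 hb.1, by
        rw [mul_assoc, ← mul_assoc b, hcomm' b hb.1 a ha.1 hb.2 ha.2, mul_assoc a b, hb.2, mul_one,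
          ha.2]⟩
      inv_mem' := fun {a} ha => ⟨inv_mem ha.1, by rw [← mul_inv_rev, ha.2, inv_one]⟩ }
  have hEmem : ∀ x, x ∈ E ↔ x ∈ (S : Subgroup G) ∧ x * x = 1 := fun x => Iff.rfl
  letI : CommGroup E := { (inferInstance : Group E) with
    mul_comm := fun x y => Subtype.ext (hcomm' x x.2.1 y y.2.1 x.2.2 y.2.2) }
  have hE : ∀ x : E, x * x = 1 := fun x => Subtype.ext x.2.2
  haveI : Finite (MulAut E) := Finite.of_injective _ DFunLike.coe_injective
  -- the action of the stabiliser
  have hstabS : ∀ (t : stab (S : Subgroup G)) x, x ∈ (S : Subgroup G) →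
      (t : MulAut G) x ∈ (S : Subgroup G) := fun t x hx => by
    have h : (S : Subgroup G).map (t : MulAut G).toMonoidHom = S := t.2
    exact h.le ⟨x, hx, rfl⟩
  have hstabE : ∀ (t : stab (S : Subgroup G)) x, x ∈ E → (t : MulAut G) x ∈ E := fun t x hx =>
    ⟨hstabS t x hx.1, by rw [← map_mul, hx.2, map_one]⟩
  let φ : stab (S : Subgroup G) →* MulAut E :=
    { toFun := fun t =>
        { toFun := fun x => ⟨(t : MulAut G) x, hstabE t x x.2⟩
          invFun := fun x => ⟨((t⁻¹ : stab (S : Subgroup G)) : MulAut G) x, hstabE t⁻¹ x x.2⟩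
          left_inv := fun x => Subtype.ext ((t : MulAut G).symm_apply_apply x)
          right_inv := fun x => Subtype.ext ((t : MulAut G).apply_symm_apply x)
          map_mul' := fun x y => Subtype.ext (map_mul (t : MulAut G) (x : G) (y : G)) }
      map_one' := by ext; rfl
      map_mul' := fun _ _ => by ext; rfl }
  let ψ := E.normalizerMonoidHom
  -- transitivity
  have hNS : ∀ n ∈ Subgroup.normalizer ((S : Subgroup G) : Set G),
      n ∈ Subgroup.normalizer (E : Set G) := by
    intro n hn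
    rw [Subgroup.mem_normalizer_iff]
    intro x
    rw [hEmem, hEmem, show n * x * n⁻¹ * (n * x * n⁻¹) = n * (x * x) * n⁻¹ by group,
      conj_eq_one_iff, ← Subgroup.mem_normalizer_iff.mp hn x]
  have htrans : TransNonOne ψ.range := by
    intro x y hx hy
    have hx1 : (x : G) ≠ 1 := fun h => hx (Subtype.ext h)
    have hy1 : (y : G) ≠ 1 := fun h => hy (Subtype.ext h)
    obtain ⟨g, hg⟩ := hconj x x.2.1 y y.2.1 (hord _ x.2.2 hx1) (hord _ y.2.2 hy1)
    set C := Subgroup.centralizer ({(y : G)} : Set G) with hC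
    have hEC : E ≤ C := fun e he => Subgroup.mem_centralizer_singleton_iff.mpr
      (hcomm' e he.1 y y.2.1 he.2 y.2.2)
    have hgEC : E.map (MulAut.conj g).toMonoidHom ≤ C := by
      rintro _ ⟨e, he, rfl⟩
      refine Subgroup.mem_centralizer_singleton_iff.mpr ?_
      show g * e * g⁻¹ * (y : G) = (y : G) * (g * e * g⁻¹)
      rw [← hg]
      calc g * e * g⁻¹ * (g * x * g⁻¹) = g * (e * x) * g⁻¹ := by group
        _ = g * (x * e) * g⁻¹ := by rw [hcomm' e he.1 x x.2.1 he.2 x.2.2]
        _ = _ := by group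
    have hEp : IsPGroup 2 E := fun e => ⟨1, by rw [pow_one, pow_two]; exact hE e⟩
    obtain ⟨T, hT⟩ := IsPGroup.exists_le_sylow (G := C)
      (P := E.subgroupOf C) (hEp.comap_of_injective C.subtype C.subtype_injective)
    obtain ⟨U, hU⟩ := IsPGroup.exists_le_sylow (G := C)
      (P := (E.map (MulAut.conj g).toMonoidHom).subgroupOf C)
      ((hEp.map _).comap_of_injective C.subtype C.subtype_injective)
    obtain ⟨c, hcU⟩ := MulAction.exists_smul_eq C U T
    obtain ⟨P, hP⟩ := IsPGroup.exists_le_sylow (G := G) (T.isPGroup'.map C.subtype)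
    obtain ⟨k, hk⟩ := MulAction.exists_smul_eq G S P
    -- the involutions of `P`
    have hPinv : ∀ z ∈ (P : Subgroup G), z * z = 1 → z ∈ E := by
      have hle : E ≤ (P : Subgroup G) := fun e he =>
        hP ⟨⟨e, hEC he⟩, hT (show e ∈ E from he), rfl⟩
      have hmapE : E = E.map (MulAut.conj k).toMonoidHom := by
        refine Subgroup.eq_of_le_of_card_ge (fun e he => ?_)
          (Subgroup.card_map_of_injective (MulEquiv.injective _)).le
        have heP := hle he
        rw [← hk, Sylow.coe_subgroup_smul] at heP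
        obtain ⟨w, hw, hwe⟩ := heP
        refine ⟨w, ⟨hw, ?_⟩, hwe⟩
        refine (MulAut.conj k).injective ?_
        rw [map_mul, map_one]
        show (MulAut.conj k) w * (MulAut.conj k) w = 1
        rw [show (MulAut.conj k) w = e from hwe]
        exact he.2
      intro z hz hzz
      rw [← hk, Sylow.coe_subgroup_smul] at hz
      obtain ⟨w, hw, rfl⟩ := hz
      rw [hmapE]
      refine ⟨w, ⟨hw, (MulAut.conj k).injective ?_⟩, rfl⟩
      rw [map_mul, map_one]
      exact hzz
    have hle : E.map (MulAut.conj ((c : G) * g)).toMonoidHom ≤ E := by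
      rintro _ ⟨e, he, rfl⟩
      have hmem : g * e * g⁻¹ ∈ E.map (MulAut.conj g).toMonoidHom := ⟨e, he, rfl⟩
      refine hPinv _ (hP ⟨c * ⟨g * e * g⁻¹, hgEC hmem⟩ * c⁻¹, ?_, ?_⟩) ?_
      · rw [← hcU, Sylow.coe_subgroup_smul]
        exact ⟨⟨g * e * g⁻¹, hgEC hmem⟩, hU (show (⟨g * e * g⁻¹, hgEC hmem⟩ : C) ∈
          (E.map (MulAut.conj g).toMonoidHom).subgroupOf C from hmem), rfl⟩
      · show (c : G) * (g * e * g⁻¹) * (c : G)⁻¹ = ((c : G) * g) * e * ((c : G) * g)⁻¹
        group
      · rw [← map_mul, he.2, map_one]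
    have hcg : (c : G) * g ∈ Subgroup.normalizer (E : Set G) :=
      Subgroup.mem_normalizer_iff_map_conj_eq.mpr (Subgroup.eq_of_le_of_card_ge hle
        (Subgroup.card_map_of_injective (MulEquiv.injective _)).ge)
    refine ⟨ψ ⟨_, hcg⟩, ⟨_, rfl⟩, Subtype.ext ?_⟩
    show (c : G) * g * x * ((c : G) * g)⁻¹ = y
    rw [show (c : G) * g * x * ((c : G) * g)⁻¹ = (c : G) * (g * x * g⁻¹) * (c : G)⁻¹ by group, hg,
      Subgroup.mem_centralizer_singleton_iff.mp c.2, mul_inv_cancel_right]
  -- the perfect core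
  obtain ⟨n, hn⟩ := exists_perfect_derived (stab (S : Subgroup G))
  set D := derivedSeries (stab (S : Subgroup G)) n with hD
  have hperf : ∀ {A : Type u} [Group A] (f : stab (S : Subgroup G) →* A),
      commutator (D.map f : Subgroup A) = ⊤ := by
    intro A _ f
    refine Subgroup.map_injective (Subgroup.subtype_injective _) ?_
    rw [Subgroup.map_subtype_commutator, ← MonoidHom.range_eq_map, Subgroup.range_subtype,
      ← Subgroup.map_commutator]
    have := congrArg (Subgroup.map D.subtype) hn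
    rw [Subgroup.map_subtype_commutator, ← MonoidHom.range_eq_map, Subgroup.range_subtype] at this
    rw [this]
  have hnorm : ∀ (t : stab (S : Subgroup G)) m, m ∈ Subgroup.normalizer (E : Set G) →
      (t : MulAut G) m ∈ Subgroup.normalizer (E : Set G) := by
    intro t m hm
    rw [Subgroup.mem_normalizer_iff]
    intro x
    obtain ⟨y, rfl⟩ := (t : MulAut G).surjective x
    rw [← map_mul, ← map_inv, ← map_mul]
    have hiff : ∀ z, (t : MulAut G) z ∈ E ↔ z ∈ E := fun z =>
      ⟨fun hz => by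
        have h := hstabE t⁻¹ _ hz
        rwa [show ((t⁻¹ : stab (S : Subgroup G)) : MulAut G) ((t : MulAut G) z) = z from
          (t : MulAut G).symm_apply_apply z] at h, hstabE t z⟩
    rw [hiff, hiff]
    exact Subgroup.mem_normalizer_iff.mp hm y
  have hLY : D.map φ ≤ ψ.range := by
    refine le_of_transitive hE htrans (hperf φ) ?_
    rintro _ ⟨t, -, rfl⟩
    rw [Subgroup.mem_normalizer_iff_map_conj_eq]
    refine Subgroup.eq_of_le_of_card_ge ?_ (Subgroup.card_map_of_injective (MulEquiv.injective _)).ge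
    rintro _ ⟨_, ⟨⟨m, hm⟩, rfl⟩, rfl⟩
    refine ⟨⟨_, hnorm t m hm⟩, ?_⟩
    show ψ _ = φ t * ψ _ * (φ t)⁻¹
    rw [eq_mul_inv_iff_mul_eq]
    ext x
    show (t : MulAut G) m * (t : MulAut G) x * ((t : MulAut G) m)⁻¹ =
      (t : MulAut G) (m * x * m⁻¹)
    rw [map_mul, map_mul, map_inv]
  -- the action on the involutions is solvable
  let ψS : Subgroup.normalizer ((S : Subgroup G) : Set G) →* MulAut E :=
    ψ.comp (Subgroup.inclusion hNS)
  have hLS : D.map φ ≤ ψS.range := by
    intro x hx
    obtain ⟨⟨m, hm⟩, hψ⟩ := hLY hx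
    obtain ⟨t, -, rfl⟩ := hx
    let NE := Subgroup.normalizer (E : Set G)
    let CE : Subgroup NE := ψ.ker
    have hSE : (S : Subgroup G) ≤ NE := fun s hs => hNS s (Subgroup.le_normalizer hs)
    let S' : Subgroup NE := (S : Subgroup G).subgroupOf NE
    let H : Subgroup NE := S' ⊔ CE
    have hmS : ∀ s, ∀ hs : s ∈ (S : Subgroup G),
        (⟨m, hm⟩ : NE) * ⟨s, hSE hs⟩ * (⟨m, hm⟩ : NE)⁻¹ ∈ H := by
      intro s hs
      have hts : (t : MulAut G) s ∈ (S : Subgroup G) := hstabS t s hs
      have hker : (⟨(t : MulAut G) s, hSE hts⟩ : NE)⁻¹ *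
          ((⟨m, hm⟩ : NE) * ⟨s, hSE hs⟩ * (⟨m, hm⟩ : NE)⁻¹) ∈ CE := by
        rw [show CE = ψ.ker from rfl, MonoidHom.mem_ker, map_mul, map_inv, inv_mul_eq_one, map_mul, map_mul, map_inv,
          hψ, eq_mul_inv_iff_mul_eq]
        ext e
        show (t : MulAut G) s * (t : MulAut G) e * ((t : MulAut G) s)⁻¹ = (t : MulAut G) (s * e * s⁻¹)
        rw [map_mul, map_mul, map_inv]
      have := H.mul_mem (Subgroup.mem_sup_left (show (⟨(t : MulAut G) s, hSE hts⟩ : NE) ∈ S' from hts))
        (Subgroup.mem_sup_right hker)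
      rwa [mul_inv_cancel_left] at this
    let S1 : Sylow 2 H := (S.subtype hSE).subtype le_sup_left
    have hconjle : ((⟨m, hm⟩ : NE) • S.subtype hSE : Sylow 2 NE).toSubgroup ≤ H := by
      rw [Sylow.coe_subgroup_smul]
      rintro _ ⟨s, hs, rfl⟩
      exact hmS s hs
    obtain ⟨h, hh⟩ := MulAction.exists_smul_eq H S1
      (((⟨m, hm⟩ : NE) • S.subtype hSE).subtype hconjle)
    have hh' : (h : NE) • S.subtype hSE = (⟨m, hm⟩ : NE) • S.subtype hSE := by
      refine Sylow.subtype_injective (G := NE) (N := H) (hP := ?_) (hQ := hconjle) ?_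
      · rw [Sylow.coe_subgroup_smul]
        rintro _ ⟨s, hs, rfl⟩
        exact H.mul_mem (H.mul_mem h.2 (Subgroup.mem_sup_left hs)) (H.inv_mem h.2)
      · exact (Sylow.smul_subtype _ _).symm.trans hh
    have hn' : (h : NE)⁻¹ * ⟨m, hm⟩ ∈ Subgroup.normalizer ((S' : Subgroup NE) : Set NE) := by
      have : ((h : NE)⁻¹ * ⟨m, hm⟩) • S.subtype hSE = S.subtype hSE := by
        rw [mul_smul, ← hh', inv_smul_smul]
      exact Sylow.smul_eq_iff_mem_normalizer.mp this
    obtain ⟨s, hs, c, hcC, hhc⟩ := Subgroup.mem_sup_of_normal_right.mp h.2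
    have hm2 : (⟨m, hm⟩ : NE) = s * c * ((h : NE)⁻¹ * ⟨m, hm⟩) := by
      rw [hhc, mul_inv_cancel_left]
    set r := (h : NE)⁻¹ * ⟨m, hm⟩ with hr
    have hrS : (r : G) ∈ Subgroup.normalizer ((S : Subgroup G) : Set G) := by
      rw [Subgroup.mem_normalizer_iff]
      intro x
      constructor
      · intro hx
        exact (Subgroup.mem_normalizer_iff.mp hn' ⟨x, hSE hx⟩).mp hx
      · intro hx
        have hrx : r⁻¹ * ⟨(r : G) * x * (r : G)⁻¹, hSE hx⟩ * r ∈ S' := by
          have := (Subgroup.mem_normalizer_iff.mp ((Subgroup.normalizer _).inv_mem hn')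
            ⟨_, hSE hx⟩).mp hx
          simpa using this
        have := Subgroup.mem_subgroupOf.mp hrx
        simpa [mul_assoc] using this
    have hsS : (s : G) ∈ (S : Subgroup G) := hs
    refine ⟨⟨(s : G) * r, mul_mem (Subgroup.le_normalizer hsS) hrS⟩, ?_⟩
    show ψ (s * r) = φ t
    rw [← hψ]
    conv_rhs => rw [hm2, map_mul, map_mul, MonoidHom.mem_ker.mp hcC, mul_one]
    exact map_mul ψ s r
  haveI := isSolvable_normalizer_sylow S
  haveI : Group.IsSolvable ψS.range := Group.isSolvable_of_surjective ψS.rangeRestrict_surjective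
  have hfix : ∀ t ∈ D, φ t = 1 := by
    intro t ht
    have h := hom_eq_one_of_solvable (hperf φ) (Subgroup.inclusion hLS) inferInstance
      ⟨φ t, t, ht, rfl⟩
    exact congrArg (fun z : ψS.range => (z : MulAut E)) h
  have hbot : D.map (restr (S : Subgroup G)) = ⊥ := by
    refine eq_bot_of_fix_involutions S.isPGroup' (fun X _ _ hX => Cfsg.Agent.S0205.result hX) _
      (hperf _) ?_
    rintro _ ⟨t, ht, rfl⟩ x hx
    refine Subtype.ext ?_
    have := congrArg Subtype.val (DFunLike.congr_fun (hfix t ht)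
      ⟨(x : G), x.2, congrArg Subtype.val hx⟩)
    exact this
  refine (Group.isSolvable_def _).mpr ⟨n, ?_⟩
  rw [← map_derivedSeries_eq (restr (S : Subgroup G)).rangeRestrict_surjective n]
  rw [eq_bot_iff]
  rintro _ ⟨t, ht, rfl⟩
  refine Subgroup.mem_bot.mpr (Subtype.ext ?_)
  show restr (S : Subgroup G) t = 1
  exact Subgroup.mem_bot.mp (hbot ▸ ⟨t, ht, rfl⟩)

end Cfsg.Agent.InvFix
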